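import Mathlib
import Cfsg.Agent.Lib.Helper33.Torus.Defs

set_option autoImplicit false

/-! Package [TOR] of project TORUS: an element of odd order `d ∣ q + 1` in `SL₂(q)` (in a
nonsplit torus) whose characteristic polynomial, and that of its square, has no root. -/

namespace Cfsg.Agent.Lib.Helper61.Torus

open Cfsg.Agent.Lib.Helper33.Torus

universe u

theorem eq_one_of_pow_eq_one_coprime {M : Type*} [Monoid M] (x : M) (a b : ℕ)
    (hab : Nat.Coprime a b) (ha : x ^ a = 1) (hb : x ^ b = 1) : x = 1 := by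
  have h1 := orderOf_dvd_of_pow_eq_one ha
  have h2 := orderOf_dvd_of_pow_eq_one hb
  have h3 : orderOf x = 1 := Nat.Coprime.eq_one_of_dvd (hab.coprime_dvd_left h1) h2
  exact orderOf_eq_one_iff.mp h3

theorem coprime_of_odd_dvd_succ (d q : ℕ) (hd : Odd d) (hq : 1 ≤ q) (hdvd : d ∣ q + 1) :
    Nat.Coprime d (q - 1) := by
  have hg1 : Nat.gcd d (q - 1) ∣ d := Nat.gcd_dvd_left _ _
  have hg2 : Nat.gcd d (q - 1) ∣ q - 1 := Nat.gcd_dvd_right _ _
  have hg3 : Nat.gcd d (q - 1) ∣ 2 := by
    have h := Nat.dvd_sub (hg1.trans hdvd) hg2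
    have h' : q + 1 - (q - 1) = 2 := by omega
    rwa [h'] at h
  have hg4 : Nat.gcd d (q - 1) ≤ 2 := Nat.le_of_dvd (by norm_num) hg3
  have hg5 : Nat.gcd d (q - 1) ≠ 2 := by
    intro h
    rw [h] at hg1
    obtain ⟨c, hc⟩ := hd
    obtain ⟨e, he⟩ := hg1
    omega
  have hg6 : Nat.gcd d (q - 1) ≠ 0 := by
    intro h
    rw [h] at hg3
    simp at hg3
  show Nat.gcd d (q - 1) = 1
  omega

theorem pkgTor : PkgTor.{u} := by
  intro F _ _ d hdodd hd1 hddvd
  classical
  have hq2 : 2 ≤ Fintype.card F := Fintype.one_lt_card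
  have hcharP : CharP F (ringChar F) := ringChar.charP F
  have hprime : Fact (ringChar F).Prime := ⟨CharP.char_is_prime F (ringChar F)⟩
  have hfin : Module.finrank F (FiniteField.Extension F (ringChar F) 2) = 2 :=
    FiniteField.finrank_extension F (ringChar F) 2
  have hcardK : Nat.card (FiniteField.Extension F (ringChar F) 2) = Fintype.card F ^ 2 := by
    rw [FiniteField.natCard_extension, Nat.card_eq_fintype_card]
  have hcardU : Nat.card (FiniteField.Extension F (ringChar F) 2)ˣ = Fintype.card F ^ 2 - 1 := by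
    rw [Nat.card_units, hcardK]
  have hdN : d ∣ Fintype.card F ^ 2 - 1 := by
    have h1 : Fintype.card F ^ 2 - 1 = (Fintype.card F + 1) * (Fintype.card F - 1) := by
      obtain ⟨a, ha⟩ : ∃ a, Fintype.card F = a + 1 := ⟨Fintype.card F - 1, by omega⟩
      rw [ha]
      simp only [Nat.add_sub_cancel]
      have h2 : (a + 1) ^ 2 = (a + 1 + 1) * a + 1 := by ring
      rw [h2, Nat.add_sub_cancel]
    rw [h1]; exact Dvd.dvd.mul_right hddvd _
  have hN0 : Fintype.card F ^ 2 - 1 ≠ 0 := by
    have : 4 ≤ Fintype.card F ^ 2 := by nlinarith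
    omega
  have hcop : Nat.Coprime d (Fintype.card F - 1) :=
    coprime_of_odd_dvd_succ d (Fintype.card F) hdodd (by omega) hddvd
  obtain ⟨g, hg⟩ := IsCyclic.exists_ofOrder_eq_natCard (α := (FiniteField.Extension F (ringChar F) 2)ˣ)
  rw [hcardU] at hg
  have hdiv0 : (Fintype.card F ^ 2 - 1) / d ≠ 0 := by
    have := Nat.div_pos (Nat.le_of_dvd (Nat.pos_of_ne_zero hN0) hdN) (by omega : 0 < d)
    omega
  have hζu : orderOf (g ^ ((Fintype.card F ^ 2 - 1) / d)) = d := by
    rw [orderOf_pow_of_dvd hdiv0 (by rw [hg]; exact Nat.div_dvd_of_dvd hdN), hg,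
      Nat.div_div_self hdN hN0]
  obtain ⟨ζ, hζ⟩ : ∃ ζ : FiniteField.Extension F (ringChar F) 2, orderOf ζ = d :=
    ⟨((g ^ ((Fintype.card F ^ 2 - 1) / d) : (FiniteField.Extension F (ringChar F) 2)ˣ) :
      FiniteField.Extension F (ringChar F) 2), by rw [orderOf_units]; exact hζu⟩
  clear hζu hg g
  -- the regular representation
  obtain ⟨b⟩ : Nonempty (Module.Basis (Fin 2) F (FiniteField.Extension F (ringChar F) 2)) :=
    ⟨Module.finBasisOfFinrankEq F _ hfin⟩
  have hLinj : Function.Injective (Algebra.leftMulMatrix b) := Algebra.leftMulMatrix_injective b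
  have key : ∀ ξ : FiniteField.Extension F (ringChar F) 2, orderOf ξ = d →
      (Algebra.leftMulMatrix b ξ).det = 1 ∧
      ∀ α : F, α ^ 2 - ((Algebra.leftMulMatrix b ξ) 0 0 + (Algebra.leftMulMatrix b ξ) 1 1) * α + 1
        ≠ 0 := by
    intro ξ hξ
    have hξd : ξ ^ d = 1 := by rw [← hξ]; exact pow_orderOf_eq_one ξ
    have hnorm : Algebra.norm F ξ = 1 := by
      have h1 : (Algebra.norm F ξ) ^ d = 1 := by rw [← map_pow, hξd, map_one]
      have h0 : Algebra.norm F ξ ≠ 0 := by
        intro h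
        rw [h, zero_pow (by omega)] at h1
        exact zero_ne_one h1
      have h2 : (Algebra.norm F ξ) ^ (Fintype.card F - 1) = 1 :=
        FiniteField.pow_card_sub_one_eq_one _ h0
      exact eq_one_of_pow_eq_one_coprime _ d (Fintype.card F - 1) hcop h1 h2
    have hdet : (Algebra.leftMulMatrix b ξ).det = 1 := by
      rw [← Algebra.norm_eq_matrix_det b ξ]; exact hnorm
    refine ⟨hdet, ?_⟩
    intro α hα
    have h3 : Algebra.norm F (ξ - algebraMap F _ α) = 0 := by
      rw [Algebra.norm_eq_matrix_det b, map_sub, AlgHom.commutes, Matrix.det_fin_two]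
      have hdet2 := hdet
      rw [Matrix.det_fin_two] at hdet2
      have e00 : (Algebra.leftMulMatrix b ξ - algebraMap F (Matrix (Fin 2) (Fin 2) F) α) 0 0 =
          (Algebra.leftMulMatrix b ξ) 0 0 - α := by
        simp [Matrix.algebraMap_matrix_apply]
      have e01 : (Algebra.leftMulMatrix b ξ - algebraMap F (Matrix (Fin 2) (Fin 2) F) α) 0 1 =
          (Algebra.leftMulMatrix b ξ) 0 1 := by
        simp [Matrix.algebraMap_matrix_apply]
      have e10 : (Algebra.leftMulMatrix b ξ - algebraMap F (Matrix (Fin 2) (Fin 2) F) α) 1 0 =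
          (Algebra.leftMulMatrix b ξ) 1 0 := by
        simp [Matrix.algebraMap_matrix_apply]
      have e11 : (Algebra.leftMulMatrix b ξ - algebraMap F (Matrix (Fin 2) (Fin 2) F) α) 1 1 =
          (Algebra.leftMulMatrix b ξ) 1 1 - α := by
        simp [Matrix.algebraMap_matrix_apply]
      rw [e00, e01, e10, e11]
      linear_combination hα + hdet2
    have h4 : ξ - algebraMap F _ α = 0 := Algebra.norm_eq_zero_iff.mp h3
    have h5 : ξ = algebraMap F _ α := sub_eq_zero.mp h4
    have h6 : α ^ d = 1 := by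
      apply (algebraMap F (FiniteField.Extension F (ringChar F) 2)).injective
      rw [map_pow, ← h5, hξd, map_one]
    have h7 : α ≠ 0 := by
      intro h
      rw [h, zero_pow (by omega)] at h6
      exact zero_ne_one h6
    have h8 : α ^ (Fintype.card F - 1) = 1 := FiniteField.pow_card_sub_one_eq_one α h7
    have h9 : α = 1 := eq_one_of_pow_eq_one_coprime α d (Fintype.card F - 1) hcop h6 h8
    rw [h9, map_one] at h5
    rw [h5, orderOf_one] at hξ
    omega
  obtain ⟨hdet1, hroot1⟩ := key ζ hζ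
  have hζ2 : orderOf (ζ ^ 2) = d := by
    have h1 : (orderOf ζ).Coprime 2 := by
      rw [hζ]; exact (Nat.coprime_two_left.mpr hdodd).symm
    rw [h1.orderOf_pow, hζ]
  obtain ⟨hdet2, hroot2⟩ := key (ζ ^ 2) hζ2
  obtain ⟨c, hc⟩ : ∃ c : SL2 F, (c : Matrix (Fin 2) (Fin 2) F) = Algebra.leftMulMatrix b ζ :=
    ⟨⟨Algebra.leftMulMatrix b ζ, hdet1⟩, rfl⟩
  have hcpow : ∀ k : ℕ, ((c ^ k : SL2 F) : Matrix (Fin 2) (Fin 2) F) =
      Algebra.leftMulMatrix b (ζ ^ k) := by
    intro k
    rw [Matrix.SpecialLinearGroup.coe_pow, hc, map_pow]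
  refine ⟨c, ?_, ?_, ?_⟩
  · rw [← hζ, orderOf_eq_orderOf_iff]
    intro k
    constructor
    · intro h
      apply hLinj
      rw [← hcpow, h, map_one]
      rfl
    · intro h
      apply Subtype.ext
      show ((c ^ k : SL2 F) : Matrix (Fin 2) (Fin 2) F) =
        ((1 : SL2 F) : Matrix (Fin 2) (Fin 2) F)
      rw [hcpow, h, map_one]
      rfl
  · intro α
    have h2 : tr2 c = (Algebra.leftMulMatrix b ζ) 0 0 + (Algebra.leftMulMatrix b ζ) 1 1 := by
      unfold tr2
      rw [← hc]
    rw [h2]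
    exact hroot1 α
  · intro α
    have h2 : tr2 (c ^ 2) =
        (Algebra.leftMulMatrix b (ζ ^ 2)) 0 0 + (Algebra.leftMulMatrix b (ζ ^ 2)) 1 1 := by
      unfold tr2
      rw [← hcpow]
    rw [h2]
    exact hroot2 α

end Cfsg.Agent.Lib.Helper61.Torus
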